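import Groth.Prelude.Def_TorSh
import Groth.Agent.H29Blow.WeakAssAffine
import Groth.Agent.H8Props.Generic
import Groth.Agent.H10Coh.FinType2
import Mathlib

/-!
# Torsion free modules on reduced locally Noetherian schemes

A section of a quasi-coherent torsion free module vanishing at the generic points of the irreducible components
(in particular one vanishing on a dense open) is zero.
-/

set_option autoImplicit false

universe u

open CategoryTheory AlgebraicGeometry TopologicalSpace Opposite

namespace Groth.Agent.H25Tors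

theorem eq_zero_of_forall_generic {X : Scheme.{u}} [IsLocallyNoetherian X] [AlgebraicGeometry.IsReduced X]
    (F : X.Modules) (hF : Coh.IsQCoh F) (htF : TorSh.IsTorsionFree F) (U : X.Opens) (m : Γ(F, U))
    (h : ∀ η ∈ genericPoints X, ∀ hη : η ∈ U, F.presheaf.germ U η hη m = 0) : m = 0 := by
  refine TopCat.Presheaf.section_ext ⟨F.presheaf, F.isSheaf⟩ U m 0 fun y hy => ?_
  refine Eq.trans ?_ (map_zero (F.presheaf.germ U y hy).hom).symm
  obtain ⟨_, ⟨V, hV : IsAffineOpen V, rfl⟩, hyV, hVU⟩ :=
    X.isBasis_affineOpens.exists_subset_of_mem_open hy U.isOpen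
  show F.presheaf.germ U y hy m = 0
  rw [← TopCat.Presheaf.germ_res_apply F.presheaf (homOfLE hVU) y hyV m]
  set t := F.presheaf.map (homOfLE hVU).op m with ht
  haveI : IsNoetherianRing Γ(X, V) := IsLocallyNoetherian.component_noetherian ⟨V, hV⟩
  haveI : _root_.IsReduced Γ(X, V) := IsReduced.component_reduced V
  have key : ∀ p ∈ minimalPrimes Γ(X, V), ¬ H29Blow.secAnn F t ≤ p := by
    intro p hp hle
    let q : Spec Γ(X, V) := ⟨p, hp.1.1⟩
    have hηV : hV.fromSpec q ∈ V := hV.range_fromSpec.subset (Set.mem_range_self q)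
    have hgen : hV.fromSpec q ∈ genericPoints X := by
      rw [Groth.Agent.H8Props.mem_genericPoints_iff]
      intro z hz
      have hzV : z ∈ V := hz.mem_open V.isOpen hηV
      obtain ⟨r, rfl⟩ : z ∈ Set.range hV.fromSpec := by rw [hV.range_fromSpec]; exact hzV
      have hrq : r.asIdeal ≤ p :=
        (PrimeSpectrum.le_iff_specializes r q).2 (hV.fromSpec.isOpenEmbedding.isInducing.specializes_iff.1 hz)
      exact congrArg hV.fromSpec (PrimeSpectrum.ext (le_antisymm hrq (hp.2 ⟨r.isPrime, bot_le⟩ hrq)))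
    have h0 : F.presheaf.germ V (hV.fromSpec q) hηV t = 0 :=
      (TopCat.Presheaf.germ_res_apply F.presheaf (homOfLE hVU) _ hηV m).trans (h _ hgen (hVU hηV))
    have e : hV.primeIdealOf ⟨hV.fromSpec q, hηV⟩ = q :=
      hV.fromSpec.isOpenEmbedding.injective (hV.fromSpec_primeIdealOf ⟨_, hηV⟩)
    exact (H29Blow.germ_ne_zero_iff F hF hV ⟨_, hηV⟩ t).2 (by rw [e]; exact hle) h0
  obtain ⟨a, ha, hnd⟩ : ∃ a ∈ H29Blow.secAnn F t, ∀ p ∈ minimalPrimes Γ(X, V), a ∉ p := by
    by_contra hc
    simp only [not_exists, not_and, not_forall, not_not] at hc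
    obtain ⟨p, hp, hle⟩ := (Ideal.subset_union_prime (f := id)
      (s := (Ideal.finite_minimalPrimes_of_isNoetherianRing Γ(X, V) ⊥).toFinset) ⊥ ⊥
      (fun i hi _ _ => (Set.Finite.mem_toFinset _).1 hi |>.1.1)).1 (fun a ha => by
        obtain ⟨p, hp, hap⟩ := hc a ha
        exact Set.mem_biUnion ((Set.Finite.mem_toFinset _).2 hp) hap)
    exact key p ((Set.Finite.mem_toFinset _).1 hp) hle
  have hreg : a ∈ nonZeroDivisors Γ(X, V) := mem_nonZeroDivisors_iff_right.2 fun b hb => by
    have : b ∈ (⊥ : Ideal Γ(X, V)).radical := by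
      rw [← Ideal.sInf_minimalPrimes, Submodule.mem_sInf]
      intro p hp
      exact (hp.1.1.mem_or_mem (show b * a ∈ p by rw [hb]; exact p.zero_mem)).resolve_right (hnd p hp)
    rwa [Ideal.radical_bot_of_isReduced] at this
  have hg := H29Blow.germ_secAnn_smul F hyV ((H29Blow.mem_secAnn F).1 ha)
  letI := TopCat.Presheaf.algebra_section_stalk X.presheaf ⟨y, hyV⟩
  haveI := hV.isLocalization_stalk ⟨y, hyV⟩
  have hreg' : IsRegular (X.presheaf.germ V y hyV a) := isRegular_iff_mem_nonZeroDivisors.2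
    (IsLocalization.map_nonZeroDivisors_le (hV.primeIdealOf ⟨y, hyV⟩).asIdeal.primeCompl (X.presheaf.stalk y)
      (Submonoid.mem_map_of_mem _ hreg))
  haveI := htF y
  exact (hreg'.isSMulRegular (M := F.presheaf.stalk y)) (hg.trans (smul_zero _).symm)

/-- A section vanishing on a dense open is zero. -/
theorem eq_zero_of_dense {X : Scheme.{u}} [IsLocallyNoetherian X] [AlgebraicGeometry.IsReduced X]
    (F : X.Modules) (hF : Coh.IsQCoh F) (htF : TorSh.IsTorsionFree F) (U W : X.Opens) (hU : Dense (U : Set X))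
    (m : Γ(F, W)) (h : F.presheaf.map (homOfLE (inf_le_left : W ⊓ U ≤ W)).op m = 0) : m = 0 :=
  eq_zero_of_forall_generic F hF htF W m fun η hη hηW =>
    (TopCat.Presheaf.germ_res_apply F.presheaf (homOfLE inf_le_left) η
      ⟨hηW, H8Props.genericPoints_subset_of_dense U.isOpen hU hη⟩ m).symm.trans
      ((congrArg _ h).trans (map_zero _))

end Groth.Agent.H25Tors
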